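import Cfsg.Agent.Lib.Helper3.U42.L1D
import Cfsg.Agent.Lib.Helper3.U42.Net

set_option autoImplicit false
set_option maxRecDepth 100000

namespace Cfsg.Agent.Lib.Helper3.U42.L1

open Cfsg.Agent.Lib.Helper11 Cfsg.Agent.Lib.Helper3

set_option maxHeartbeats 0
set_option Elab.async false

noncomputable def fc (i : ℕ) : ℕ := (fc0_0 i)
noncomputable def sc (i : ℕ) : ℕ := (sc0_0 i)
noncomputable def nc (i : ℕ) : ℕ := (nc0_0 i)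
noncomputable def cc (i : ℕ) : ℕ := (cc0_0 i)

def isH (l : ℕ) : Bool := decide (l ∈ [5, 6])
def gens : List ℕ := [1, 2]
def hl : List ℕ := [5, 6]
def dl : List (List ℕ × ℕ) := [([1], 3), ([2], 4), ([4, 1, 1, 2], 5), ([4, 4, 1, 2, 1, 1], 7), ([7], 6), ([5], 8), ([6, 6, 5, 6, 6, 6, 5, 6, 6], 10), ([10], 9), ([8], 11)]
def BR_0 : List (List ℕ) := [[], [4, 1, 1, 2, 5], [4, 4, 1, 2, 1, 1, 7], [5, 8], [6, 6, 5, 6, 6, 6, 5, 6, 6, 10], [8, 11], [1, 1, 1, 1], [3, 3, 3, 3], [2, 2, 2, 2, 2], [1, 2, 1, 2, 1, 2, 1, 2, 1, 2], [1, 4, 1, 4, 1, 4, 1, 4], [3, 2, 3, 2, 3, 2, 3, 2], [3, 4, 3, 4, 3, 4, 3, 4, 3, 4], [1, 1, 2, 1, 1, 2, 1, 1, 2, 1, 1, 2], [1, 4, 4, 1, 4, 4, 1, 4, 4, 1, 4, 4, 1, 4, 4, 1, 4, 4, 1, 4, 4, 1, 4, 4, 1, 4, 4], [3, 3, 2, 3, 3, 2, 3, 3, 2, 3, 3, 2], [3, 3,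 4, 3, 3, 4, 3, 3, 4, 3, 3, 4], [3, 2, 2, 3, 2, 2, 3, 2, 2, 3, 2, 2, 3, 2, 2, 3, 2, 2, 3, 2, 2, 3, 2, 2, 3, 2, 2], [1, 1, 1, 2, 1, 1, 1, 2, 1, 1, 1, 2, 1, 1, 1, 2], [1, 1, 4, 4, 1, 1, 4, 4, 1, 1, 4, 4, 1, 1, 4, 4, 1, 1, 4, 4, 1, 1, 4, 4], [1, 2, 1, 4, 1, 2, 1, 4, 1, 2, 1, 4, 1, 2, 1, 4], [1, 2, 3, 2, 1, 2, 3, 2, 1, 2, 3, 2, 1, 2, 3, 2, 1, 2, 3, 2, 1, 2, 3, 2], [1, 4, 3, 4, 1, 4, 3, 4, 1, 4, 3, 4, 1, 4, 3, 4, 1, 4, 3, 4, 1, 4, 3, 4], [3, 3, 3, 2, 3, 3, 3, 2, 3, 3, 3, 2, 3, 3, 3, 2, 3, 3, 3, 2], [3, 3, 3, 4, 3, 3, 3, 4, 3, 3, 3, 4, 3, 3, 3, 4], [3, 3, 2, 2, 3, 3, 2, 2, 3, 3, 2, 2, 3, 3, 2, 2, 3, 3, 2, 2, 3, 3, 2, 2], [3, 4, 4, 4, 3, 4, 4, 4, 3, 4, 4, 4, 3, 4, 4, 4, 3, 4, 4, 4, 3, 4, 4, 4, 3, 4, 4, 4, 3, 4, 4, 4, 3, 4, 4, 4], [1, 2, 1, 4, 3, 9, 9, 9, 7, 7, 5, 7,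 5], [1, 4, 1, 1, 2, 3, 7, 5, 6], [1, 1, 2, 1, 4, 1, 11, 10, 6, 6, 6, 5], [2, 2, 1, 1, 4, 4, 9, 7, 7, 5, 6], [1, 4, 1, 2, 2, 3, 2, 11, 9, 7, 7, 5]]
def BR : List (List ℕ) := BR_0
set_option maxRecDepth 10000000 in
noncomputable def rt : RT := (.node 22 (.node 11 (.node 5 (.node 2 (.node 1 (.leaf 0 0 []) (.leaf 6 2 [1, 1, 1, 1])) (.node 3 (.leaf 10 4 [1, 4, 1, 4, 1, 4, 1, 4]) (.node 4 (.leaf 2 2 [1, 2, 1, 1, 7, 4, 4]) (.leaf 8 2 [2, 2, 2, 2, 2])))) (.node 8 (.node 6 (.leaf 1 2 [1, 2, 5, 4, 1]) (.node 7 (.leaf 7 1 [3, 3, 3, 3]) (.leaf 3 1 [8, 5]))) (.node 9 (.leaf 4 9 [10, 6, 6, 5, 6, 6, 6, 5, 6, 6]) (.node 10 (.leaf 5 1 [11, 8]) (.leaf 27 2 [1, 4, 3, 9, 9, 9, 7, 7, 5, 7, 5, 1, 2]))))) (.node 16 (.node 13 (.node 12 (.leaf 28 3 [1, 2, 3, 7, 5, 6, 1, 4, 1]) (.leaf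 1 4 [5, 4, 1, 1, 2])) (.node 14 (.leaf 29 3 [1, 4, 1, 11, 10, 6, 6, 6, 5, 1, 1, 2]) (.node 15 (.leaf 10 6 [1, 4, 1, 4, 1, 4, 1, 4]) (.leaf 13 2 [2, 1, 1, 2, 1, 1, 2, 1, 1, 2, 1, 1])))) (.node 19 (.node 17 (.leaf 18 0 [1, 1, 1, 2, 1, 1, 1, 2, 1, 1, 1, 2, 1, 1, 1, 2]) (.node 18 (.leaf 20 8 [1, 2, 1, 4, 1, 2, 1, 4, 1, 2, 1, 4, 1, 2, 1, 4]) (.leaf 22 22 [3, 4, 1, 4, 3, 4, 1, 4, 3, 4, 1, 4, 3, 4, 1, 4, 3, 4, 1, 4, 3, 4, 1, 4]))) (.node 20 (.leaf 7 2 [3, 3, 3, 3]) (.node 21 (.leaf 15 3 [3, 3, 2, 3, 3, 2, 3, 3, 2, 3, 3, 2]) (.leaf 16 10 [3, 4, 3, 3, 4, 3, 3, 4, 3, 3, 4, 3])))))) (.node 33 (.node 27 (.node 24 (.node 23 (.leaf 25 20 [3, 3, 2, 2, 3, 3, 2, 2, 3, 3, 2, 2, 3, 3, 2, 2, 3, 3, 2, 2, 3, 3, 2, 2]) (.leaf 10 5 [4, 1, 4, 1, 4, 1, 4, 1])) (.node 25 (.leaf 12 8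 [3, 4, 3, 4, 3, 4, 3, 4, 3, 4]) (.node 26 (.leaf 2 6 [7, 4, 4, 1, 2, 1, 1]) (.leaf 30 3 [1, 4, 4, 9, 7, 7, 5, 6, 2, 2, 1])))) (.node 30 (.node 28 (.leaf 9 9 [2, 1, 2, 1, 2, 1, 2, 1, 2, 1]) (.node 29 (.leaf 31 3 [2, 2, 3, 2, 11, 9, 7, 7, 5, 1, 4, 1]) (.leaf 8 3 [2, 2, 2, 2, 2]))) (.node 31 (.leaf 13 9 [1, 1, 2, 1, 1, 2, 1, 1, 2, 1, 1, 2]) (.node 32 (.leaf 15 9 [3, 3, 2, 3, 3, 2, 3, 3, 2, 3, 3, 2]) (.leaf 20 7 [4, 1, 2, 1, 4, 1, 2, 1, 4, 1, 2, 1, 4, 1, 2, 1]))))) (.node 39 (.node 36 (.node 34 (.leaf 11 3 [2, 3, 2, 3, 2, 3, 2, 3]) (.node 35 (.leaf 20 14 [1, 4, 1, 2, 1, 4, 1, 2, 1, 4, 1, 2, 1, 4, 1, 2]) (.leaf 9 5 [2, 1, 2, 1, 2, 1, 2, 1, 2, 1]))) (.node 37 (.leaf 14 14 [4, 1, 4, 4, 1, 4, 4, 1, 4, 4, 1, 4, 4, 1, 4, 4, 1, 4, 4, 1, 4, 4, 1, 4, 4, 1, 4]) (.node 38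 (.leaf 19 21 [1, 4, 4, 1, 1, 4, 4, 1, 1, 4, 4, 1, 1, 4, 4, 1, 1, 4, 4, 1, 1, 4, 4, 1]) (.leaf 24 12 [3, 3, 3, 4, 3, 3, 3, 4, 3, 3, 3, 4, 3, 3, 3, 4])))) (.node 42 (.node 40 (.leaf 12 4 [3, 4, 3, 4, 3, 4, 3, 4, 3, 4]) (.node 41 (.leaf 15 5 [2, 3, 3, 2, 3, 3, 2, 3, 3, 2, 3, 3]) (.leaf 17 9 [3, 2, 2, 3, 2, 2, 3, 2, 2, 3, 2, 2, 3, 2, 2, 3, 2, 2, 3, 2, 2, 3, 2, 2, 3, 2, 2]))) (.node 43 (.leaf 21 13 [2, 3, 2, 1, 2, 3, 2, 1, 2, 3, 2, 1, 2, 3, 2, 1, 2, 3, 2, 1, 2, 3, 2, 1]) (.node 44 (.leaf 23 9 [3, 3, 2, 3, 3, 3, 2, 3, 3, 3, 2, 3, 3, 3, 2, 3, 3, 3, 2, 3]) (.leaf 26 11 [4, 3, 4, 4, 4, 3, 4, 4, 4, 3, 4, 4, 4, 3, 4, 4, 4, 3, 4, 4, 4, 3, 4, 4, 4, 3, 4, 4, 4, 3, 4, 4, 4, 3, 4, 4])))))))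

theorem b0 : allR (guardB 1 (blk fc sc rt.get Cfsg.Agent.Lib.Helper3.U42.INV isH)) 1 0 = true := by decide +kernel
theorem c0 : allR (guardB 2 (cblk fc nc cc 256 45 79228162514264337593543950336 gens)) 1 0 = true := by decide +kernel

theorem chkAll : ∀ j < 1, blk fc sc rt.get Cfsg.Agent.Lib.Helper3.U42.INV isH j = true :=
  guardB_spec (D := 1) b0 (by norm_num)

theorem clAll : ∀ jb < 2, cblk fc nc cc (256 * 1) 45 79228162514264337593543950336 gens jb = true :=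
  guardB_spec (D := 1) c0 (by norm_num)

theorem hid_0 : BR_0.all (wordId (ntOf Cfsg.Agent.Lib.Helper3.U42.ntl) 6) = true := by decide +kernel
theorem hid : BR.all (wordId (ntOf Cfsg.Agent.Lib.Helper3.U42.ntl) 6) = true := by
  simp only [BR, List.all_append, hid_0, Bool.and_self]

theorem card_eq : Nat.card (lgrp (vL Cfsg.Agent.Lib.Helper3.U42.ntl Cfsg.Agent.Lib.Helper3.U42.deg) gens) = 45 * Nat.card (lgrp (vL Cfsg.Agent.Lib.Helper3.U42.ntl Cfsg.Agent.Lib.Helper3.U42.deg) hl) :=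
  Cfsg.Agent.Lib.Helper3.U42.setup.level gens hl dl BR (by decide +kernel) (by decide +kernel) hid (by decide +kernel)
    (by decide +kernel) rt (by decide +kernel) isH (fun l h => of_decide_eq_true h) fc sc nc cc 1 2 45 79228162514264337593543950336
    (by norm_num) (by norm_num) (by decide +kernel) (by decide) chkAll clAll
    0 0 5 (by norm_num [Cfsg.Agent.Lib.Helper3.U42.deg]) (by norm_num [Cfsg.Agent.Lib.Helper3.U42.deg]) (by decide +kernel) (by decide +kernel)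

theorem ub {M : Type*} [Group M] (w : ℕ → M) (h0 : w 0 = 1) (hinv : ∀ l, w (invL Cfsg.Agent.Lib.Helper3.U42.INV l) = (w l)⁻¹)
    (hBR : ∀ r ∈ BR, (r.map w).prod = 1)
    (hdlr : ∀ r ∈ dl.map (fun p => p.1 ++ [p.2]), (r.map w).prod = 1) (N : ℕ) (hN : Bd w hl N) :
    Bd w gens (45 * N) :=
  level_bd w Cfsg.Agent.Lib.Helper3.U42.INV h0 hinv gens hl dl BR (by decide +kernel) hdlr hBR (by decide +kernel) (by decide +kernel)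
    rt (by decide +kernel) isH (fun l h => of_decide_eq_true h) fc sc nc cc 1 2 45 79228162514264337593543950336
    (by norm_num) (by norm_num) (by decide +kernel) (by decide) chkAll clAll N hN

end Cfsg.Agent.Lib.Helper3.U42.L1
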