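import Cfsg.Agent.Lib.Helper3.U42.L2D
import Cfsg.Agent.Lib.Helper3.U42.Net

set_option autoImplicit false
set_option maxRecDepth 100000

namespace Cfsg.Agent.Lib.Helper3.U42.L2

open Cfsg.Agent.Lib.Helper11 Cfsg.Agent.Lib.Helper3

set_option maxHeartbeats 0
set_option Elab.async false

noncomputable def fc (i : ℕ) : ℕ := (fc0_0 i)
noncomputable def sc (i : ℕ) : ℕ := (sc0_0 i)
noncomputable def nc (i : ℕ) : ℕ := (nc0_0 i)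
noncomputable def cc (i : ℕ) : ℕ := (cc0_0 i)

def isH (l : ℕ) : Bool := decide (l ∈ [8, 9])
def gens : List ℕ := [5, 6]
def hl : List ℕ := [8, 9]
def dl : List (List ℕ × ℕ) := [([6], 7), ([5], 8), ([6, 6, 5, 6, 6, 6, 5, 6, 6], 10), ([10], 9), ([8], 11)]
def BR_0 : List (List ℕ) := [[], [5, 8], [6, 6, 5, 6, 6, 6, 5, 6, 6, 10], [6, 6, 6, 6, 6, 6], [5, 6, 6, 5, 6, 6, 5, 6, 6, 5, 6, 6, 5, 6, 6, 5, 6, 6], [5, 7, 7, 5, 7, 7, 5, 7, 7, 5, 7, 7, 5, 7, 7, 5, 7, 7], [5, 6, 5, 7, 5, 6, 5, 7, 5, 6, 5, 7], [5, 6, 6, 6, 5, 6, 6, 6, 5, 6, 6, 6, 5, 6, 6, 6, 5, 6, 6, 6, 5, 6, 6, 6], [6, 5, 6, 6, 5, 6, 9, 9]]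
def BR : List (List ℕ) := BR_0
set_option maxRecDepth 10000000 in
noncomputable def rt : RT := (.node 10 (.node 5 (.node 2 (.node 1 (.leaf 0 0 []) (.leaf 2 4 [6, 6, 5, 6, 6, 10, 6, 6, 5, 6])) (.node 3 (.leaf 3 3 [6, 6, 6, 6, 6, 6]) (.node 4 (.leaf 3 4 [6, 6, 6, 6, 6, 6]) (.leaf 2 9 [10, 6, 6, 5, 6, 6, 6, 5, 6, 6])))) (.node 7 (.node 6 (.leaf 1 0 [5, 8]) (.leaf 6 6 [5, 7, 5, 6, 5, 7, 5, 6, 5, 7, 5, 6])) (.node 8 (.leaf 6 8 [5, 6, 5, 7, 5, 6, 5, 7, 5, 6, 5, 7]) (.node 9 (.leaf 8 3 [6, 5, 6, 9, 9, 6, 5, 6]) (.leaf 8 6 [9, 9, 6, 5, 6, 6, 5, 6]))))) (.node 15 (.node 12 (.node 11 (.leaf 3 2 [6, 6, 6, 6, 6, 6]) (.leaf 7 6 [6, 6, 5, 6, 6, 6, 5, 6, 6, 6, 5, 6, 6, 6, 5, 6, 6, 6, 5, 6, 6, 6, 5, 6])) (.node 13 (.leaf 7 22 [6, 6, 5, 6, 6, 6, 5, 6, 6, 6, 5, 6, 6, 6, 5, 6, 6, 6, 5, 6, 6, 6, 5, 6]) (.node 14 (.leaf 5 11 [7, 5, 7, 7, 5, 7, 7, 5, 7, 7,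 5, 7, 7, 5, 7, 7, 5, 7]) (.leaf 8 1 [5, 6, 6, 5, 6, 9, 9, 6])))) (.node 18 (.node 16 (.leaf 8 5 [6, 9, 9, 6, 5, 6, 6, 5]) (.node 17 (.leaf 8 0 [6, 5, 6, 6, 5, 6, 9, 9]) (.leaf 2 5 [6, 5, 6, 6, 10, 6, 6, 5, 6, 6]))) (.node 19 (.leaf 4 3 [5, 6, 6, 5, 6, 6, 5, 6, 6, 5, 6, 6, 5, 6, 6, 5, 6, 6]) (.node 20 (.leaf 4 0 [5, 6, 6, 5, 6, 6, 5, 6, 6, 5, 6, 6, 5, 6, 6, 5, 6, 6]) (.leaf 6 7 [7, 5, 6, 5, 7, 5, 6, 5, 7, 5, 6, 5]))))))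

theorem b0 : allR (guardB 1 (blk fc sc rt.get Cfsg.Agent.Lib.Helper3.U42.INV isH)) 1 0 = true := by decide +kernel
theorem c0 : allR (guardB 1 (cblk fc nc cc 256 32 79228162514264337593543950336 gens)) 1 0 = true := by decide +kernel

theorem chkAll : ∀ j < 1, blk fc sc rt.get Cfsg.Agent.Lib.Helper3.U42.INV isH j = true :=
  guardB_spec (D := 1) b0 (by norm_num)

theorem clAll : ∀ jb < 1, cblk fc nc cc (256 * 1) 32 79228162514264337593543950336 gens jb = true :=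
  guardB_spec (D := 1) c0 (by norm_num)

theorem hid_0 : BR_0.all (wordId (ntOf Cfsg.Agent.Lib.Helper3.U42.ntl) 6) = true := by decide +kernel
theorem hid : BR.all (wordId (ntOf Cfsg.Agent.Lib.Helper3.U42.ntl) 6) = true := by
  simp only [BR, List.all_append, hid_0, Bool.and_self]

theorem card_eq : Nat.card (lgrp (vL Cfsg.Agent.Lib.Helper3.U42.ntl Cfsg.Agent.Lib.Helper3.U42.deg) gens) = 32 * Nat.card (lgrp (vL Cfsg.Agent.Lib.Helper3.U42.ntl Cfsg.Agent.Lib.Helper3.U42.deg) hl) :=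
  Cfsg.Agent.Lib.Helper3.U42.setup.level gens hl dl BR (by decide +kernel) (by decide +kernel) hid (by decide +kernel)
    (by decide +kernel) rt (by decide +kernel) isH (fun l h => of_decide_eq_true h) fc sc nc cc 1 1 32 79228162514264337593543950336
    (by norm_num) (by norm_num) (by decide +kernel) (by decide) chkAll clAll
    1 1 7 (by norm_num [Cfsg.Agent.Lib.Helper3.U42.deg]) (by norm_num [Cfsg.Agent.Lib.Helper3.U42.deg]) (by decide +kernel) (by decide +kernel)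

theorem ub {M : Type*} [Group M] (w : ℕ → M) (h0 : w 0 = 1) (hinv : ∀ l, w (invL Cfsg.Agent.Lib.Helper3.U42.INV l) = (w l)⁻¹)
    (hBR : ∀ r ∈ BR, (r.map w).prod = 1)
    (hdlr : ∀ r ∈ dl.map (fun p => p.1 ++ [p.2]), (r.map w).prod = 1) (N : ℕ) (hN : Bd w hl N) :
    Bd w gens (32 * N) :=
  level_bd w Cfsg.Agent.Lib.Helper3.U42.INV h0 hinv gens hl dl BR (by decide +kernel) hdlr hBR (by decide +kernel) (by decide +kernel)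
    rt (by decide +kernel) isH (fun l h => of_decide_eq_true h) fc sc nc cc 1 1 32 79228162514264337593543950336
    (by norm_num) (by norm_num) (by decide +kernel) (by decide) chkAll clAll N hN

end Cfsg.Agent.Lib.Helper3.U42.L2
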