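import Mathlib

set_option autoImplicit false
set_option maxRecDepth 100000

namespace Cfsg.Agent.Lib.Helper3.U42.L3

noncomputable def fc0_0 (i : ℕ) : ℕ := (nat_lit 0x60000c80000060000c80000080000e80000070001080000070000a90000050000ea0000040000880000040000880000030000aa00000500006900000000000800000000000800000500004b0000020000ab00000300002b00000100006b0000080000ca00000600010900000000000b00000000000b00000400010a0000080000890000030000e900000700006a0000020000c900000600004a0000020000a800000500004800000100008a00000400002900000100006800000300002800000000004900000200000a00000000002a000001000009)
noncomputable def sc0_0 (i : ℕ) : ℕ := (nat_lit 0x1700001800000700001d00001a00000500001b00001c000006000019000016000b000700001100001900000b0000040000010005000500001100001900001d00001a0000070005000600001500001b00000b00001a00001400050005000015000019000001000016000010000500040000070001000300000d0001000200000f0001000200000300000b00001100000e000006000500010000fffe0000ffff0000ffff0000ffff0000ffff0000ffff0000ffff0000ffff0000ffff)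
noncomputable def nc0_0 (i : ℕ) : ℕ := (nat_lit 0x8000007000006000005000004000003000002000001000000)
noncomputable def cc0_0 (i : ℕ) : ℕ := (nat_lit 0x400000e00000700002100000500001f00000800002000000800001200000600002200000300001a00000200000800000100000600000400001c00000700000d00000100000400000600000b000005000009000000000000000003000005000002000003000000000018)

end Cfsg.Agent.Lib.Helper3.U42.L3
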